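import Mathlib

/-!
# The large primes of the Janko group `J₄`: arithmetic

For a group of order `86775571046077562880` and `p ∈ {23, 29, 31, 37, 43}` write the Sylow
`p`-normaliser as `p · c · e`, with `p · c` the centraliser.  The congruences of Sylow, the
divisibility conditions and the symmetry `q ∣ c_p → p ∣ c_q` leave `c = 1` as the only possibility.
-/

set_option autoImplicit false

namespace Cfsg.Agent.Lib.J4Large96

/-- The order of `J₄`. -/
def order : ℕ := 86775571046077562880

/-- The five large primes. -/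
def bigPrimes : List ℕ := [23, 29, 31, 37, 43]

/-- All products of divisors of the prime powers in a list. -/
def prodDivs : List (ℕ × ℕ) → List ℕ
  | [] => [1]
  | (q, k) :: l => (List.range (k + 1)).flatMap fun i => (prodDivs l).map fun d => q ^ i * d

theorem mem_prodDivs : ∀ (l : List (ℕ × ℕ)), (∀ x ∈ l, x.1.Prime) →
    ∀ c : ℕ, c ∣ (l.map fun x => x.1 ^ x.2).prod → c ∈ prodDivs l
  | [], _, c, h => by simpa [prodDivs] using Nat.dvd_one.1 (by simpa using h)
  | (q, k) :: l, hl, c, h => by
    rw [List.map_cons, List.prod_cons, Nat.dvd_mul] at h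
    obtain ⟨c1, c2, h1, h2, rfl⟩ := h
    obtain ⟨i, hi, rfl⟩ := (Nat.dvd_prime_pow (hl _ List.mem_cons_self)).1 h1
    simp only [prodDivs, List.mem_flatMap, List.mem_range, List.mem_map]
    exact ⟨i, by omega, c2, mem_prodDivs l (fun x hx => hl x (List.mem_cons_of_mem _ hx)) c2 h2, rfl⟩

/-- The possible prime factors of `c` for the prime `p`. -/
def cFactors (p : ℕ) : List (ℕ × ℕ) := (11, 3) :: (bigPrimes.filter (· ≠ p)).map (·, 1)

/-- The known lower bounds for `e`. -/
def lower (p : ℕ) : ℕ := if p = 23 then 11 else if p = 31 then 10 else 1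

/-- The part of `e` prime to `11`. -/
def prime11 (e : ℕ) : ℕ := e / Nat.gcd e 11

/-- The conditions on `(c, e)`. -/
def Admissible (p c e : ℕ) : Prop :=
  c * e % p = order / p % p ∧ lower p ∣ e ∧
    ∀ q ∈ bigPrimes.filter (· ≠ p), q ∣ c → prime11 e ∣ q - 1

instance (p c e : ℕ) : Decidable (Admissible p c e) := by
  unfold Admissible; infer_instance

/-- The admissible pairs. -/
def options (p : ℕ) : List (ℕ × ℕ) :=
  ((prodDivs (cFactors p)).flatMap fun c =>
    ((List.range p).filter fun e => e ∣ p - 1).map fun e => (c, e)).filter fun x =>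
      decide (Admissible p x.1 x.2)

theorem mem_options {p c e : ℕ} (hp : p ∈ bigPrimes)
    (hc : c ∣ 11 ^ 3 * ((bigPrimes.filter (· ≠ p)).prod)) (he : e ∣ p - 1)
    (h : Admissible p c e) : (c, e) ∈ options p := by
  simp only [options, List.mem_filter, List.mem_flatMap, List.mem_map, List.mem_range,
    decide_eq_true_eq]
  refine ⟨⟨c, mem_prodDivs _ ?_ c ?_, e, ⟨?_, he⟩, rfl⟩, h⟩
  · revert hp p
    intro p hp
    intro _ _ _ x hx
    revert x
    fin_cases hp <;> decide
  · rw [cFactors, List.map_cons, List.prod_cons, List.map_map]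
    convert hc using 3
    exact List.map_id'' (fun x => by simp) _
  · have h1 : 1 < p := by fin_cases hp <;> omega
    have := Nat.le_of_dvd (by omega) he
    omega

/-- The symmetry conditions on five candidates for `c`. -/
def symOK (a b c d f : ℕ) : Bool :=
  (decide (29 ∣ a) == decide (23 ∣ b)) && (decide (31 ∣ a) == decide (23 ∣ c)) &&
  (decide (37 ∣ a) == decide (23 ∣ d)) && (decide (43 ∣ a) == decide (23 ∣ f)) &&
  (decide (31 ∣ b) == decide (29 ∣ c)) && (decide (37 ∣ b) == decide (29 ∣ d)) &&
  (decide (43 ∣ b) == decide (29 ∣ f)) && (decide (37 ∣ c) == decide (31 ∣ d)) &&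
  (decide (43 ∣ c) == decide (31 ∣ f)) && (decide (43 ∣ d) == decide (37 ∣ f))

/-- All symmetric choices are trivial. -/
def uniqueCheck : Bool :=
  (options 23).all fun a => (options 29).all fun b => (options 31).all fun c =>
    (options 37).all fun d => (options 43).all fun f =>
      !symOK a.1 b.1 c.1 d.1 f.1 ||
        decide (a = (1, 22) ∧ b = (1, 28) ∧ c = (1, 10) ∧ d = (1, 12) ∧ f = (1, 14))

theorem uniqueCheck_eq : uniqueCheck = true := by decide +kernel

theorem unique_options {a b c d f : ℕ × ℕ} (ha : a ∈ options 23) (hb : b ∈ options 29)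
    (hc : c ∈ options 31) (hd : d ∈ options 37) (hf : f ∈ options 43)
    (h : symOK a.1 b.1 c.1 d.1 f.1 = true) :
    a = (1, 22) ∧ b = (1, 28) ∧ c = (1, 10) ∧ d = (1, 12) ∧ f = (1, 14) := by
  have h0 := uniqueCheck_eq
  simp only [uniqueCheck, List.all_eq_true, Bool.or_eq_true, Bool.not_eq_true',
    decide_eq_true_eq] at h0
  exact (h0 a ha b hb c hc d hd f hf).resolve_left (by rw [h]; decide)

end Cfsg.Agent.Lib.J4Large96
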