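import Mathlib
import Cfsg.Agent.Lib.J4Large96.Arith

/-!
# The large primes of the Janko group `J₄`: normalisers

From the order, the fact that elements of order `2, 3, 5, 7` centralise no element of order
`23, 29, 31, 37, 43`, and two lower bounds for automisers (`23:11`, `31:10`), every Sylow subgroup
for these primes is self-centralising with normaliser of order `23·22, 29·28, 31·10, 37·12, 43·14`.
-/

set_option autoImplicit false

namespace Cfsg.Agent.Lib.J4Large96

open Subgroup

variable {G : Type*} [Group G]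

/-- The input facts. -/
structure Facts (G : Type*) [Group G] : Prop where
  card : Nat.card G = order
  small : ∀ (x : G) (r : ℕ), r ∈ ([2, 3, 5, 7] : List ℕ) → orderOf x = r →
    ∀ q ∈ bigPrimes, ¬ q ∣ Nat.card (centralizer ({x} : Set G))
  w23 : ∃ U : Subgroup G, Nat.card U = 23 ∧
    11 ∣ (centralizer (U : Set G)).relIndex (normalizer (U : Set G))
  w31 : ∃ U : Subgroup G, Nat.card U = 31 ∧
    10 ∣ (centralizer (U : Set G)).relIndex (normalizer (U : Set G))

theorem prime_of_big {p : ℕ} (hp : p ∈ bigPrimes) : p.Prime := by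
  fin_cases hp <;> norm_num

/-- `|N(H) : C(H)|` as the order of the image in `Aut H`. -/
theorem relIndex_eq_card_range (H : Subgroup G) :
    (centralizer (H : Set G)).relIndex (normalizer (H : Set G)) =
      Nat.card H.normalizerMonoidHom.range := by
  rw [← index_ker, normalizerMonoidHom_ker]
  rfl

theorem relIndex_dvd [Finite G] {p : ℕ} [Fact p.Prime] {H : Subgroup G} (hH : Nat.card H = p) :
    (centralizer (H : Set G)).relIndex (normalizer (H : Set G)) ∣ p - 1 := by
  rw [relIndex_eq_card_range]
  have := isCyclic_of_prime_card hH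
  refine (card_subgroup_dvd_card _).trans ?_
  rw [IsCyclic.card_mulAut, hH, Nat.totient_prime Fact.out]

variable [Finite G]

theorem card_sylow (F : Facts G) {p : ℕ} (hp : p ∈ bigPrimes) (P : Sylow p G) :
    Nat.card (P : Subgroup G) = p := by
  haveI := Fact.mk (prime_of_big hp)
  obtain ⟨k, hk⟩ := P.2.exists_card_eq
  have hd := card_subgroup_dvd_card (P : Subgroup G)
  rw [hk, F.card] at hd
  have hk0 : k ≠ 0 := by
    rintro rfl
    have h1 := P.not_dvd_index
    have h2 := (P : Subgroup G).card_mul_index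
    rw [hk, pow_zero, one_mul, F.card] at h2
    rw [h2] at h1
    revert h1
    fin_cases hp <;> decide +kernel
  have hk2 : k < 2 := by
    by_contra h
    have h2 : p ^ 2 ∣ order := (pow_dvd_pow p (by omega)).trans hd
    revert h2
    fin_cases hp <;> decide +kernel
  rw [hk, show k = 1 by omega, pow_one]

/-- Every subgroup of order `p` is a Sylow subgroup. -/
theorem exists_sylow_eq (F : Facts G) {p : ℕ} (hp : p ∈ bigPrimes) {H : Subgroup G}
    (hH : Nat.card H = p) : ∃ P : Sylow p G, (P : Subgroup G) = H := by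
  haveI := Fact.mk (prime_of_big hp)
  obtain ⟨P, hP⟩ := (IsPGroup.of_card (n := 1) (by rw [hH, pow_one]) : IsPGroup p H).exists_le_sylow
  exact ⟨P, (eq_of_le_of_card_ge hP (by rw [hH, card_sylow F hp P])).symm⟩

/-- Conjugation invariance of the invariants of `H`. -/
theorem invariants_conj (H : Subgroup G) (g : G) :
    Nat.card (centralizer ((H.map (MulAut.conj g).toMonoidHom : Subgroup G) : Set G)) =
        Nat.card (centralizer (H : Set G)) ∧
      (centralizer ((H.map (MulAut.conj g).toMonoidHom : Subgroup G) : Set G)).relIndex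
          (normalizer ((H.map (MulAut.conj g).toMonoidHom : Subgroup G) : Set G)) =
        (centralizer (H : Set G)).relIndex (normalizer (H : Set G)) := by
  have hc : centralizer ((H.map (MulAut.conj g).toMonoidHom : Subgroup G) : Set G) =
      (centralizer (H : Set G)).map (MulAut.conj g).toMonoidHom := by
    ext x
    rw [mem_map_equiv, mem_centralizer_iff, mem_centralizer_iff]
    constructor
    · intro h y hy
      apply (MulAut.conj g).injective
      rw [map_mul, map_mul, MulEquiv.apply_symm_apply]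
      exact h _ (mem_map_of_mem _ hy)
    · intro h y hy
      rw [SetLike.mem_coe, mem_map_equiv] at hy
      have := congrArg (MulAut.conj g) (h _ hy)
      rwa [map_mul, map_mul, MulEquiv.apply_symm_apply, MulEquiv.apply_symm_apply] at this
  have hn : normalizer ((H.map (MulAut.conj g).toMonoidHom : Subgroup G) : Set G) =
      (normalizer (H : Set G)).map (MulAut.conj g).toMonoidHom :=
    (map_equiv_normalizer_eq H (MulAut.conj g)).symm
  refine ⟨?_, ?_⟩
  · rw [hc]
    exact card_map_of_injective (MulAut.conj g).injective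
  · rw [hc, hn]
    exact relIndex_map_map_of_injective _ _ (MulAut.conj g).injective

theorem invariants_eq (F : Facts G) {p : ℕ} (hp : p ∈ bigPrimes) {H K : Subgroup G}
    (hH : Nat.card H = p) (hK : Nat.card K = p) :
    Nat.card (centralizer (H : Set G)) = Nat.card (centralizer (K : Set G)) ∧
      (centralizer (H : Set G)).relIndex (normalizer (H : Set G)) =
        (centralizer (K : Set G)).relIndex (normalizer (K : Set G)) := by
  haveI := Fact.mk (prime_of_big hp)
  obtain ⟨P, rfl⟩ := exists_sylow_eq F hp hH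
  obtain ⟨Q, rfl⟩ := exists_sylow_eq F hp hK
  obtain ⟨g, hg⟩ := MulAction.exists_smul_eq G Q P
  have hmap : (Q : Subgroup G).map (MulAut.conj g).toMonoidHom = (P : Subgroup G) := by
    rw [← hg]; rfl
  rw [← hmap]
  exact invariants_conj _ g

theorem eq_one_of_small (F : Facts G) {H : Subgroup G} {q : ℕ} (hq : q ∈ bigPrimes)
    {Q : Subgroup G} (hQ : Nat.card Q = q) (hH : H ≤ centralizer (Q : Set G)) {r : ℕ}
    (hr : r ∈ ([2, 3, 5, 7] : List ℕ)) : ¬ r ∣ Nat.card H := by
  intro hd
  haveI : Fact r.Prime := ⟨by fin_cases hr <;> norm_num⟩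
  obtain ⟨x, hx⟩ := exists_prime_orderOf_dvd_card' r hd
  refine F.small (x : G) r hr (by rwa [Subgroup.orderOf_coe]) q hq ?_
  rw [← hQ]
  refine card_dvd_of_le fun y hy => mem_centralizer_singleton_iff.2 ?_
  exact mem_centralizer_iff.1 (hH x.2) y hy

/-- `|C(U)| / p` divides `11³` times the product of the other large primes. -/
theorem c_dvd (F : Facts G) {p : ℕ} (hp : p ∈ bigPrimes) {U : Subgroup G}
    (hU : Nat.card U = p) {c : ℕ} (hc : Nat.card (centralizer (U : Set G)) = p * c) :
    c ∣ 11 ^ 3 * (bigPrimes.filter (· ≠ p)).prod := by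
  have hd : p * c ∣ order := by
    rw [← hc, ← F.card]; exact card_subgroup_dvd_card _
  have hsplit : order = p * (2 ^ 21 * 3 ^ 3 * 5 * 7 * (11 ^ 3 * (bigPrimes.filter (· ≠ p)).prod)) := by
    fin_cases hp <;> decide +kernel
  rw [hsplit] at hd
  have hd' := Nat.dvd_of_mul_dvd_mul_left (prime_of_big hp).pos hd
  have hcop : ∀ r ∈ ([2, 3, 5, 7] : List ℕ), Nat.Coprime c r := by
    intro r hr
    have hrp : r.Prime := by fin_cases hr <;> norm_num
    refine Nat.coprime_comm.1 ((hrp.coprime_iff_not_dvd).2 fun h => ?_)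
    exact eq_one_of_small F hp hU le_rfl hr (hc ▸ h.mul_left p)
  refine Nat.Coprime.dvd_of_dvd_mul_left ?_ hd'
  exact Nat.Coprime.mul_right (Nat.Coprime.mul_right (Nat.Coprime.mul_right
    ((hcop 2 (by simp)).pow_right 21) ((hcop 3 (by simp)).pow_right 3)) (hcop 5 (by simp)))
    (hcop 7 (by simp))

/-- The kernel condition on the automiser. -/
theorem prime11_dvd (F : Facts G) {p q : ℕ} (hp : p ∈ bigPrimes) (hq : q ∈ bigPrimes)
    {U : Subgroup G} (hU : Nat.card U = p)
    (hdvd : q ∣ Nat.card (centralizer (U : Set G))) :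
    prime11 ((centralizer (U : Set G)).relIndex (normalizer (U : Set G))) ∣ q - 1 := by
  classical
  haveI := Fact.mk (prime_of_big hp)
  haveI := Fact.mk (prime_of_big hq)
  set C := centralizer (U : Set G) with hC
  set N := normalizer (U : Set G) with hN
  obtain ⟨v, hv⟩ := exists_prime_orderOf_dvd_card' q hdvd
  set Q : Subgroup G := zpowers (v : G) with hQ
  have hQc : Nat.card Q = q := by rw [hQ, Nat.card_zpowers, Subgroup.orderOf_coe, hv]
  have hQC : Q ≤ C := by rw [hQ, zpowers_le]; exact v.2
  have hCN : C ≤ N := centralizer_le_normalizer _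
  -- Frattini
  have hfrat : ∀ n ∈ N, ∃ c ∈ C, c * n ∈ N ⊓ normalizer (Q : Set G) := by
    intro n hn
    have hQn : Q.map (MulAut.conj n).toMonoidHom ≤ C := by
      rintro _ ⟨y, hy, rfl⟩
      refine mem_centralizer_iff.2 fun w hw => ?_
      have hw' : n⁻¹ * w * n ∈ U := by
        have := (mem_normalizer_iff''.1 hn w).1 hw
        simpa using this
      have h := mem_centralizer_iff.1 (hQC hy) _ hw'
      simp only [MulEquiv.coe_toMonoidHom, MulAut.conj_apply]
      calc w * (n * y * n⁻¹) = n * ((n⁻¹ * w * n) * y) * n⁻¹ := by group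
        _ = n * (y * (n⁻¹ * w * n)) * n⁻¹ := by rw [h]
        _ = n * y * n⁻¹ * w := by group
    have hmapc : Nat.card (Q.map (MulAut.conj n).toMonoidHom : Subgroup G) = q := by
      rw [card_map_of_injective (MulAut.conj n).injective, hQc]
    have hfac : (Nat.card C).factorization q = 1 := by
      have h1 : Nat.card C ∣ order := F.card ▸ card_subgroup_dvd_card C
      have hne : Nat.card C ≠ 0 := Nat.card_pos.ne'
      refine le_antisymm ?_ ((prime_of_big hq).factorization_pos_of_dvd hne hdvd)
      have h3 : (Nat.card C).factorization q ≤ order.factorization q :=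
        (Nat.factorization_le_iff_dvd hne (by decide)).2 h1 q
      refine h3.trans ?_
      by_contra hlt
      have h4 : q ^ 2 ∣ order :=
        ((prime_of_big hq).pow_dvd_iff_le_factorization (by decide)).2 (by omega)
      revert h4
      fin_cases hq <;> decide +kernel
    obtain ⟨c, hc⟩ := MulAction.exists_smul_eq C
      (Sylow.ofCard ((Q.map (MulAut.conj n).toMonoidHom).subgroupOf C) (p := q) (by
        rw [Nat.card_congr (subgroupOfEquivOfLe hQn).toEquiv, hmapc, hfac, pow_one]))
      (Sylow.ofCard (Q.subgroupOf C) (p := q) (by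
        rw [Nat.card_congr (subgroupOfEquivOfLe hQC).toEquiv, hQc, hfac, pow_one]))
    refine ⟨c, c.2, mul_mem (hCN c.2) hn, ?_⟩
    have hsub : ((Q.map (MulAut.conj n).toMonoidHom).subgroupOf C).map (MulAut.conj c).toMonoidHom =
        Q.subgroupOf C := congrArg (fun S : Sylow q C => (S : Subgroup C)) hc
    have hle : Q.map (MulAut.conj ((c : G) * n)).toMonoidHom ≤ Q := by
      rintro _ ⟨y, hy, rfl⟩
      have hmem : (⟨n * y * n⁻¹, hQn (mem_map_of_mem _ hy)⟩ : C) ∈
          (Q.map (MulAut.conj n).toMonoidHom).subgroupOf C := mem_map_of_mem _ hy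
      have h := hsub ▸ mem_map_of_mem (MulAut.conj c).toMonoidHom hmem
      simp only [mem_subgroupOf, MulEquiv.coe_toMonoidHom, MulAut.conj_apply, Subgroup.coe_mul,
        InvMemClass.coe_inv] at h ⊢
      simpa [mul_assoc] using h
    have heq : Q.map (MulAut.conj ((c : G) * n)).toMonoidHom = Q :=
      eq_of_le_of_card_ge hle (by rw [card_map_of_injective (MulAut.conj _).injective])
    show (c : G) * n ∈ normalizer (Q : Set G)
    rw [mem_normalizer_iff]
    intro y
    constructor
    · intro hy
      have := mem_map_of_mem (MulAut.conj ((c : G) * n)).toMonoidHom hy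
      rw [heq] at this
      exact this
    · intro hy
      rw [← heq, mem_map] at hy
      obtain ⟨z, hz, hzy⟩ := hy
      exact (MulAut.conj ((c : G) * n)).injective hzy ▸ hz
  -- the action on `U`
  set H := N ⊓ normalizer (Q : Set G) with hH
  have he : C.relIndex N ∣ Nat.card H := by
    rw [hC, hN, relIndex_eq_card_range]
    have hrange : U.normalizerMonoidHom.range =
        (H.subgroupOf (normalizer (U : Set G))).map U.normalizerMonoidHom := by
      refine le_antisymm ?_ (map_le_range _ _)
      rintro _ ⟨⟨n, hn⟩, rfl⟩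
      obtain ⟨c, hc, hcn⟩ := hfrat n hn
      refine ⟨⟨c * n, hcn.1⟩, hcn, ?_⟩
      have hck : (⟨c, centralizer_le_normalizer _ hc⟩ : normalizer (U : Set G)) ∈
          U.normalizerMonoidHom.ker := by
        rw [normalizerMonoidHom_ker]; exact hc
      rw [show (⟨c * n, hcn.1⟩ : normalizer (U : Set G)) =
          ⟨c, centralizer_le_normalizer _ hc⟩ * ⟨n, hn⟩ from rfl, map_mul,
        MonoidHom.mem_ker.1 hck, one_mul]
    rw [hrange]
    refine (card_map_dvd _ _).trans (dvd_of_eq ?_)
    exact Nat.card_congr (subgroupOfEquivOfLe inf_le_left).toEquiv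
  -- the action on `Q`
  set K := (centralizer (Q : Set G)) ⊓ H with hK
  have hHK : Nat.card H ∣ Nat.card K * (q - 1) := by
    have h1 : Nat.card K * (centralizer (Q : Set G)).relIndex H = Nat.card H := by
      rw [hK, ← inf_relIndex_right, ← relIndex_bot_left, ← relIndex_bot_left,
        relIndex_mul_relIndex _ _ _ bot_le inf_le_right]
    rw [← h1]
    refine mul_dvd_mul_left _ (Dvd.dvd.trans ?_ (relIndex_dvd hQc))
    have : ((centralizer (Q : Set G)).subgroupOf (normalizer (Q : Set G))).Normal := by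
      rw [← normalizerMonoidHom_ker]; infer_instance
    have h2 := relIndex_dvd_index_of_normal
      ((centralizer (Q : Set G)).subgroupOf (normalizer (Q : Set G)))
      (H.subgroupOf (normalizer (Q : Set G)))
    have h3 : ((centralizer (Q : Set G)).subgroupOf (normalizer (Q : Set G))).relIndex
        (H.subgroupOf (normalizer (Q : Set G))) = (centralizer (Q : Set G)).relIndex H :=
      relIndex_subgroupOf inf_le_right
    rw [h3] at h2
    exact h2
  set e := C.relIndex N with hedef
  have hep : e ∣ p - 1 := relIndex_dvd hU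
  have hd : prime11 e ∣ Nat.card K * (q - 1) :=
    (Nat.div_dvd_of_dvd (Nat.gcd_dvd_left e 11)).trans (he.trans hHK)
  have hpr : prime11 e ∣ 210 ^ 6 := by
    have : e < p := by
      have h1 := Nat.le_of_dvd (by have := (prime_of_big hp).two_le; omega) hep
      have := (prime_of_big hp).two_le
      omega
    revert hep this
    generalize e = e'
    revert e'
    fin_cases hp <;>
      exact fun e' hd' hl => (show ∀ e < _, e ∣ _ - 1 → prime11 e ∣ 210 ^ 6 by decide +kernel) e' hl hd'
  have hKcop : Nat.Coprime (210 ^ 6) (Nat.card K) := by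
    have h : ∀ r ∈ ([2, 3, 5, 7] : List ℕ), Nat.Coprime r (Nat.card K) := fun r hr => by
      have hrp : r.Prime := by fin_cases hr <;> norm_num
      exact (hrp.coprime_iff_not_dvd).2 (eq_one_of_small F hq hQc inf_le_left hr)
    refine Nat.Coprime.pow_left 6 ?_
    rw [show (210 : ℕ) = 2 * 3 * 5 * 7 from rfl]
    exact Nat.Coprime.mul_left (Nat.Coprime.mul_left (Nat.Coprime.mul_left (h 2 (by simp))
      (h 3 (by simp))) (h 5 (by simp))) (h 7 (by simp))
  exact (Nat.Coprime.coprime_dvd_left hpr hKcop).dvd_of_dvd_mul_left hd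

/-- Symmetry. -/
theorem dvd_symm (F : Facts G) {p q : ℕ} (hp : p ∈ bigPrimes) (hq : q ∈ bigPrimes)
    {U V : Subgroup G} (hU : Nat.card U = p) (hV : Nat.card V = q)
    (h : q ∣ Nat.card (centralizer (U : Set G))) : p ∣ Nat.card (centralizer (V : Set G)) := by
  haveI := Fact.mk (prime_of_big hq)
  obtain ⟨v, hv⟩ := exists_prime_orderOf_dvd_card' q h
  have hQ : Nat.card (zpowers (v : G)) = q := by
    rw [Nat.card_zpowers, Subgroup.orderOf_coe, hv]
  rw [← (invariants_eq F hq hQ hV).1, ← hU]
  refine card_dvd_of_le fun y hy => mem_centralizer_iff.2 fun w hw => ?_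
  obtain ⟨i, rfl⟩ := mem_zpowers_iff.1 hw
  exact ((mem_centralizer_iff.1 (zpow_mem v.2 i) y hy)).symm

/-- The pair `(c, e)` is admissible. -/
theorem exists_option (F : Facts G) {p : ℕ} (hp : p ∈ bigPrimes) (U : Sylow p G) :
    ∃ c e : ℕ, (c, e) ∈ options p ∧ Nat.card (centralizer ((U : Subgroup G) : Set G)) = p * c ∧
      Nat.card (normalizer ((U : Subgroup G) : Set G)) = p * c * e := by
  haveI := Fact.mk (prime_of_big hp)
  have hU := card_sylow F hp U
  have hcyc := isCyclic_of_prime_card hU
  have hUC : (U : Subgroup G) ≤ centralizer ((U : Subgroup G) : Set G) := fun x hx =>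
    mem_centralizer_iff.2 fun y hy =>
      congrArg Subtype.val (IsMulCommutative.is_comm.comm (⟨y, hy⟩ : (U : Subgroup G)) ⟨x, hx⟩)
  obtain ⟨c, hc⟩ := hU ▸ card_dvd_of_le hUC
  set e := (centralizer ((U : Subgroup G) : Set G)).relIndex (normalizer ((U : Subgroup G) : Set G))
    with he
  have hN : Nat.card (normalizer ((U : Subgroup G) : Set G)) = p * c * e := by
    rw [← hc, he, ← relIndex_bot_left, ← relIndex_bot_left,
      relIndex_mul_relIndex _ _ _ bot_le (centralizer_le_normalizer _)]
  refine ⟨c, e, mem_options hp (c_dvd F hp hU hc) (relIndex_dvd hU) ⟨?_, ?_, ?_⟩, hc, hN⟩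
  · have h1 := card_sylow_modEq_one p G
    rw [Sylow.card_eq_index_normalizer U] at h1
    have h2 := (normalizer ((U : Subgroup G) : Set G)).card_mul_index
    rw [hN, F.card] at h2
    have h3 : order / p = c * e * (normalizer ((U : Subgroup G) : Set G)).index := by
      refine Nat.div_eq_of_eq_mul_right (prime_of_big hp).pos ?_
      rw [← h2]; ring
    rw [h3]
    exact ((Nat.ModEq.mul_left (c * e) h1).trans (by rw [mul_one])).symm
  · rw [lower]
    split_ifs with h23 h31
    · subst h23
      obtain ⟨V, hV, hd⟩ := F.w23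
      rw [he, (invariants_eq F hp hU hV).2]; exact hd
    · subst h31
      obtain ⟨V, hV, hd⟩ := F.w31
      rw [he, (invariants_eq F hp hU hV).2]; exact hd
    · exact one_dvd _
  · intro q hq hqc
    exact prime11_dvd F hp (List.mem_of_mem_filter hq) hU (hc ▸ hqc.mul_left p)

theorem centralizer_eq (F : Facts G) {p : ℕ} (hp : p ∈ bigPrimes) (U : Sylow p G)
    (h : Nat.card (centralizer ((U : Subgroup G) : Set G)) = p) :
    centralizer ((U : Subgroup G) : Set G) = (U : Subgroup G) := by
  haveI := Fact.mk (prime_of_big hp)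
  haveI := isCyclic_of_prime_card (card_sylow F hp U)
  refine (eq_of_le_of_card_ge (fun x hx => ?_) (by rw [h, card_sylow F hp U])).symm
  exact mem_centralizer_iff.2 fun y hy =>
    congrArg Subtype.val (IsMulCommutative.is_comm.comm (⟨y, hy⟩ : (U : Subgroup G)) ⟨x, hx⟩)

/-- The invariants of a Sylow subgroup for a large prime. -/
def Good (G : Type*) [Group G] (p e : ℕ) : Prop :=
  ∀ U : Sylow p G, centralizer ((U : Subgroup G) : Set G) = (U : Subgroup G) ∧
    Nat.card (normalizer ((U : Subgroup G) : Set G)) = p * e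

/-- The main theorem. -/
theorem large_primes (F : Facts G) :
    Good G 23 22 ∧ Good G 29 28 ∧ Good G 31 10 ∧ Good G 37 12 ∧ Good G 43 14 := by
  have hb : ∀ p ∈ bigPrimes, ∃ (U : Sylow p G) (c e : ℕ), (c, e) ∈ options p ∧
      Nat.card (centralizer ((U : Subgroup G) : Set G)) = p * c ∧
      Nat.card (normalizer ((U : Subgroup G) : Set G)) = p * c * e := fun p hp =>
    ⟨default, exists_option F hp default⟩
  obtain ⟨A, a, a', ha, hac, haN⟩ := hb 23 (by simp [bigPrimes])
  obtain ⟨B, b, b', hb', hbc, hbN⟩ := hb 29 (by simp [bigPrimes])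
  obtain ⟨C, c, c', hc, hcc, hcN⟩ := hb 31 (by simp [bigPrimes])
  obtain ⟨D, d, d', hd, hdc, hdN⟩ := hb 37 (by simp [bigPrimes])
  obtain ⟨E, f, f', hf, hfc, hfN⟩ := hb 43 (by simp [bigPrimes])
  have sym : ∀ {p q x y : ℕ} (U : Sylow p G) (V : Sylow q G), p ∈ bigPrimes → q ∈ bigPrimes →
      p ≠ q → Nat.card (centralizer ((U : Subgroup G) : Set G)) = p * x →
      Nat.card (centralizer ((V : Subgroup G) : Set G)) = q * y →
      (decide (q ∣ x) == decide (p ∣ y)) = true := by
    intro p q x y U V hp hq hpq hx hy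
    have hcop : Nat.Coprime q p := (Nat.coprime_primes (prime_of_big hq) (prime_of_big hp)).2 hpq.symm
    rw [beq_iff_eq, decide_eq_decide]
    constructor
    · intro h
      exact hcop.symm.dvd_of_dvd_mul_left (hy ▸ dvd_symm F hp hq (card_sylow F hp U)
        (card_sylow F hq V) (hx ▸ h.mul_left p))
    · intro h
      exact hcop.dvd_of_dvd_mul_left (hx ▸ dvd_symm F hq hp (card_sylow F hq V)
        (card_sylow F hp U) (hy ▸ h.mul_left q))
  have hsym : symOK a b c d f = true := by
    simp only [symOK, Bool.and_eq_true]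
    refine ⟨⟨⟨⟨⟨⟨⟨⟨⟨sym A B ?_ ?_ ?_ hac hbc, sym A C ?_ ?_ ?_ hac hcc⟩, sym A D ?_ ?_ ?_ hac hdc⟩,
      sym A E ?_ ?_ ?_ hac hfc⟩, sym B C ?_ ?_ ?_ hbc hcc⟩, sym B D ?_ ?_ ?_ hbc hdc⟩,
      sym B E ?_ ?_ ?_ hbc hfc⟩, sym C D ?_ ?_ ?_ hcc hdc⟩, sym C E ?_ ?_ ?_ hcc hfc⟩,
      sym D E ?_ ?_ ?_ hdc hfc⟩ <;> decide
  obtain ⟨r1, r2, r3, r4, r5⟩ :=
    unique_options ha hb' hc hd hf hsym
  simp only [Prod.mk.injEq] at r1 r2 r3 r4 r5
  obtain ⟨rfl, rfl⟩ := r1
  obtain ⟨rfl, rfl⟩ := r2
  obtain ⟨rfl, rfl⟩ := r3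
  obtain ⟨rfl, rfl⟩ := r4
  obtain ⟨rfl, rfl⟩ := r5
  have good : ∀ {p e : ℕ}, p ∈ bigPrimes → ∀ V : Sylow p G,
      Nat.card (centralizer ((V : Subgroup G) : Set G)) = p * 1 →
      Nat.card (normalizer ((V : Subgroup G) : Set G)) = p * 1 * e → Good G p e := by
    intro p e hp V h1 h2 U
    haveI := Fact.mk (prime_of_big hp)
    obtain ⟨g, hg⟩ := MulAction.exists_smul_eq G V U
    have hm : (V : Subgroup G).map (MulAut.conj g).toMonoidHom = (U : Subgroup G) := by
      rw [← hg]; rfl
    refine ⟨centralizer_eq F hp U ?_, ?_⟩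
    · rw [← hm, (invariants_conj (V : Subgroup G) g).1, h1, mul_one]
    · rw [← hm, ← map_equiv_normalizer_eq, card_map_of_injective (MulAut.conj g).injective, h2,
        mul_one]
  exact ⟨good (by simp [bigPrimes]) A hac haN, good (by simp [bigPrimes]) B hbc hbN,
    good (by simp [bigPrimes]) C hcc hcN, good (by simp [bigPrimes]) D hdc hdN,
    good (by simp [bigPrimes]) E hfc hfN⟩

/-- An element inducing a power map of multiplicative order `d` gives `d ∣ |N : C|`. -/
theorem dvd_relIndex_of_conj {p d k : ℕ} [Fact p.Prime] {u n : G} (hu : orderOf u = p)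
    (hn : n * u * n⁻¹ = u ^ k) (hd : orderOf (k : ZMod p) = d) :
    d ∣ (centralizer (zpowers u : Set G)).relIndex (normalizer (zpowers u : Set G)) := by
  have hle : (zpowers u).map (MulAut.conj n).toMonoidHom ≤ zpowers u := by
    rw [MonoidHom.map_zpowers, zpowers_le]
    simp only [MulEquiv.coe_toMonoidHom, MulAut.conj_apply, hn]
    exact pow_mem (mem_zpowers u) k
  have heq := eq_of_le_of_card_ge hle (by rw [card_map_of_injective (MulAut.conj n).injective])
  have hN : n ∈ normalizer (zpowers u : Set G) := by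
    rw [mem_normalizer_iff]
    intro y
    constructor
    · intro hy
      have := mem_map_of_mem (MulAut.conj n).toMonoidHom hy
      rw [heq] at this
      exact this
    · intro hy
      rw [← heq, mem_map_equiv] at hy
      simpa [mul_assoc] using hy
  rw [relIndex_eq_card_range]
  set φ := (zpowers u).normalizerMonoidHom ⟨n, hN⟩ with hφ
  have happ : ∀ y : zpowers u, ((φ y : zpowers u) : G) = n * y * n⁻¹ := fun y => rfl
  have hpow : ∀ m : ℕ, ((φ ^ m) ⟨u, mem_zpowers u⟩ : G) = u ^ k ^ m := by
    intro m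
    induction m with
    | zero => simp
    | succ m ih =>
      rw [pow_succ', MulAut.mul_apply, happ, ih, ← MulAut.conj_apply, map_pow, MulAut.conj_apply,
        hn, ← pow_mul, pow_succ']
  have : d ∣ orderOf φ := by
    rw [← hd, orderOf_dvd_iff_pow_eq_one]
    have h := hpow (orderOf φ)
    rw [pow_orderOf_eq_one, MulAut.one_apply] at h
    have h1 : u ^ 1 = u ^ k ^ orderOf φ := by rw [pow_one]; exact h
    rw [pow_eq_pow_iff_modEq, hu, ← ZMod.natCast_eq_natCast_iff] at h1
    rw [← Nat.cast_pow, ← h1, Nat.cast_one]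
  refine this.trans ?_
  have h := orderOf_dvd_natCard (⟨φ, ⟨n, hN⟩, hφ.symm⟩ : (zpowers u).normalizerMonoidHom.range)
  rwa [← Subgroup.orderOf_coe] at h

end Cfsg.Agent.Lib.J4Large96
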