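import Cfsg.Agent.Lib.J4Large96.Group
import Cfsg.Agent.Lib.J4Rep72.Rep
import Cfsg.Agent.S1703

/-!
# Witnesses in the presented Janko group `J₄`: `23:11` and `31:10`

Words found by a search in the 112-dimensional representation; the relations are checked there and
pulled back by simplicity.
-/

set_option autoImplicit false
set_option maxRecDepth 20000

namespace Cfsg.Agent.Lib.J4Large96

open Subgroup Cfsg.Spor Cfsg.Agent.Lib.J4Rep72

/-- The element of `J₄` of a word in `x`, `y`, `y⁻¹`, `t`. -/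
noncomputable def elem (w : List ℕ) : J4 := (w.map (letVal PresentedGroup.of)).prod

/-- Word of an element of order `23`. -/
def u23w : List ℕ := [0, 1, 3, 2, 3, 2, 0, 1, 3, 1, 3, 2]

/-- Word of an element mapping it to its ninth power. -/
def n23w : List ℕ := [3, 2, 0, 2, 0, 1, 0, 1, 0, 2, 0, 2, 0, 1, 0, 1, 0, 2, 0, 3, 2, 0, 1, 3, 2, 0, 2, 3, 1, 0,
    2, 3, 1, 0, 2, 0, 2, 0, 1, 0, 1, 0, 2, 0, 2, 0, 1, 0, 1, 0, 2, 0, 2, 0, 1, 3, 2, 0, 1, 3,
    2, 0, 3, 2, 3, 1, 0, 2, 3, 1, 3, 2, 0, 2, 0, 1, 0, 1, 0, 2, 0, 2, 0, 2, 0, 2, 0, 2, 0, 1,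
    0, 1, 0, 2, 0, 1, 0, 2, 0, 1, 0, 2, 0, 1, 0, 1, 0, 2, 0, 2, 0, 1, 0, 1, 0, 2, 0, 1, 0, 2,
    0, 1, 0, 1, 0, 2, 0, 2, 0, 1, 0, 1, 0, 2, 0, 2]

/-- Word of an element of order `31`. -/
def u31w : List ℕ := [0, 2, 0, 1, 0, 1, 3, 1, 0, 2, 3, 2, 0, 2, 0, 1]

/-- Word of an element mapping it to its fifteenth power. -/
def n31w : List ℕ := [0, 2, 3, 1, 0, 2, 3, 2, 0, 1, 0, 2, 0, 2, 0, 1, 0, 1, 0, 2, 0, 2, 0, 1, 0, 1, 3, 1, 3, 2,
    0, 1, 3, 2, 3, 0, 3, 2, 3, 1, 0, 2, 3, 1, 3, 0, 3, 1, 3, 2, 0, 1, 3, 2, 3, 0, 1, 0, 1, 0,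
    2, 0, 2, 0, 1, 0, 1, 0, 2, 0, 2, 0, 1, 0, 1, 0, 2, 3, 1, 0, 2, 3, 1, 0, 1, 0, 2, 0, 1, 0,
    2, 0, 1, 0, 2, 0, 1, 0, 2, 0, 1, 0, 2, 0, 1, 0, 2, 0, 3, 2, 3, 1, 0, 2, 3, 1, 3, 2, 0, 2,
    0, 1, 0, 1, 0, 2, 0, 2, 0, 1, 0, 1, 0, 2, 0, 2, 3]

/-- The letters are in range. -/
def okW (w : List ℕ) : Bool := w.all fun l => Nat.blt l 4

theorem rep_elem {w : List ℕ} (h : okW w = true) :
    ((rep (elem w) : (Matrix (Fin 112) (Fin 112) (ZMod 2))ˣ) : Matrix (Fin 112) (Fin 112) (ZMod 2)) =
      toMat (wordM matLet w) := by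
  rw [elem, map_list_prod, List.map_map, ← Units.coeHom_apply, map_list_prod, List.map_map,
    (toMat_wordM len_let w).2]
  congr 1
  refine List.map_congr_left fun l hl => ?_
  have hl4 : l < 4 := Nat.le_of_ble_eq_true (List.all_eq_true.1 h l hl)
  rw [Function.comp_apply, Function.comp_apply, Units.coeHom_apply, ← coe_letVal hl4]
  interval_cases l <;> simp [letVal, rep]

theorem rep_injective : Function.Injective rep := by
  haveI : IsSimpleGroup J4 := Cfsg.Agent.S1703.result.1
  refine (MonoidHom.ker_eq_bot_iff rep).1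
    (((MonoidHom.normal_ker rep).eq_bot_or_eq_top).resolve_right fun h => x_ne_one ?_)
  have hx : PresentedGroup.of J4.Gen.x ∈ rep.ker := by rw [h]; exact Subgroup.mem_top _
  rw [MonoidHom.mem_ker, rep, PresentedGroup.toGroup.of] at hx
  have h3 : toMat (matLet 0) ≠ 1 := by
    intro he
    have e := congrFun (congrFun he ⟨0, by omega⟩) ⟨1, by omega⟩
    rw [Matrix.one_apply_ne (by simp [Fin.ext_iff])] at e
    unfold toMat matLet at e
    revert e
    decide +kernel
  exact absurd (congrArg (fun u : (Matrix (Fin 112) (Fin 112) (ZMod 2))ˣ =>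
    (u : Matrix (Fin 112) (Fin 112) (ZMod 2))) hx) h3

theorem elem_eq {v w : List ℕ} (hv : okW v = true) (hw : okW w = true)
    (h : wordM matLet v = wordM matLet w) : elem v = elem w :=
  rep_injective (Units.ext (by rw [rep_elem hv, rep_elem hw, h]))

theorem elem_append (v w : List ℕ) : elem (v ++ w) = elem v * elem w := by
  rw [elem, List.map_append, List.prod_append]; rfl

theorem elem_pow (v : List ℕ) (k : ℕ) : elem (List.replicate k v).flatten = elem v ^ k := by
  induction k with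
  | zero => simp [elem]
  | succ k ih => rw [List.replicate_succ, List.flatten_cons, elem_append, ih, pow_succ']

theorem elem_ne_one {w : List ℕ} (hw : okW w = true) (i : Fin 112)
    (h : (wordM matLet w).getD i 0 ≠ 2 ^ (i : ℕ)) (hlt : (wordM matLet w).getD i 0 < 2 ^ 112) :
    elem w ≠ 1 := by
  intro he
  have h1 := congrArg Units.val (congrArg rep he)
  rw [map_one, Units.val_one, rep_elem hw] at h1
  refine h (Nat.eq_of_testBit_eq fun j => ?_)
  rw [Nat.testBit_two_pow]
  by_cases hj : j < 112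
  · have e := congrFun (congrFun h1 i) ⟨j, hj⟩
    simp only [toMat, bitZ, Matrix.one_apply, Fin.ext_iff] at e
    by_cases hij : (i : ℕ) = j <;> simp [hij] at e ⊢ <;> simpa [hij] using e
  · rw [Nat.testBit_lt_two_pow (lt_of_lt_of_le hlt (Nat.pow_le_pow_right (by norm_num) (by omega)))]
    exact (decide_eq_false (by omega)).symm

/-- A witness from words. -/
theorem witness_of_words {p d k : ℕ} [Fact p.Prime] {uw nw : List ℕ}
    (hu : okW uw = true) (hn : okW nw = true)
    (hp : wordM matLet (List.replicate p uw).flatten = wordM matLet [])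
    (h1 : ∃ i : Fin 112, (wordM matLet uw).getD i 0 ≠ 2 ^ (i : ℕ) ∧
      (wordM matLet uw).getD i 0 < 2 ^ 112)
    (hrel : wordM matLet (nw ++ uw) = wordM matLet ((List.replicate k uw).flatten ++ nw))
    (hd : orderOf (k : ZMod p) = d) :
    ∃ U : Subgroup J4, Nat.card U = p ∧
      d ∣ (centralizer (U : Set J4)).relIndex (normalizer (U : Set J4)) := by
  have hok : ∀ m, okW (List.replicate m uw).flatten = true := fun m => by
    refine List.all_eq_true.2 fun l hl => ?_
    obtain ⟨v, hv, hlv⟩ := List.mem_flatten.1 hl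
    rw [List.eq_of_mem_replicate hv] at hlv
    exact List.all_eq_true.1 hu l hlv
  have happ : ∀ {a b : List ℕ}, okW a = true → okW b = true → okW (a ++ b) = true := by
    intro a b ha hb
    simp only [okW, List.all_append, Bool.and_eq_true] at *
    exact ⟨ha, hb⟩
  have hpow : elem uw ^ p = 1 := by
    rw [← elem_pow]; exact (elem_eq (hok p) rfl hp).trans rfl
  obtain ⟨i, hi1, hi2⟩ := h1
  have hord : orderOf (elem uw) = p := orderOf_eq_prime hpow (elem_ne_one hu i hi1 hi2)
  have hconj : elem nw * elem uw * (elem nw)⁻¹ = elem uw ^ k := by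
    rw [mul_inv_eq_iff_eq_mul, ← elem_pow, ← elem_append, ← elem_append]
    exact elem_eq (happ hn hu) (happ (hok k) hn) hrel
  exact ⟨zpowers (elem uw), by rw [Nat.card_zpowers, hord], dvd_relIndex_of_conj hord hconj hd⟩

theorem orderOf_nine : orderOf ((9 : ℕ) : ZMod 23) = 11 := by
  haveI : Fact (Nat.Prime 11) := ⟨by norm_num⟩
  exact orderOf_eq_prime (by decide +kernel) (by decide +kernel)

theorem orderOf_fifteen : orderOf ((15 : ℕ) : ZMod 31) = 10 := by
  rw [orderOf_eq_iff (by norm_num)]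
  exact ⟨by decide +kernel, fun m hm hm0 => by interval_cases m <;> decide +kernel⟩

theorem j4_w23 : ∃ U : Subgroup J4, Nat.card U = 23 ∧
    11 ∣ (centralizer (U : Set J4)).relIndex (normalizer (U : Set J4)) := by
  haveI : Fact (Nat.Prime 23) := ⟨by norm_num⟩
  exact witness_of_words (uw := u23w) (nw := n23w) (by decide) (by decide) (by decide +kernel)
    ⟨0, by decide +kernel⟩ (by decide +kernel) orderOf_nine

theorem j4_w31 : ∃ U : Subgroup J4, Nat.card U = 31 ∧
    10 ∣ (centralizer (U : Set J4)).relIndex (normalizer (U : Set J4)) := by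
  haveI : Fact (Nat.Prime 31) := ⟨by norm_num⟩
  exact witness_of_words (uw := u31w) (nw := n31w) (by decide) (by decide) (by decide +kernel)
    ⟨0, by decide +kernel⟩ (by decide +kernel) orderOf_fifteen

/-- Transfer of a witness along an isomorphism. -/
theorem witness_transfer {G H : Type*} [Group G] [Group H] (f : G ≃* H) {p d : ℕ}
    (h : ∃ U : Subgroup G, Nat.card U = p ∧
      d ∣ (centralizer (U : Set G)).relIndex (normalizer (U : Set G))) :
    ∃ U : Subgroup H, Nat.card U = p ∧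
      d ∣ (centralizer (U : Set H)).relIndex (normalizer (U : Set H)) := by
  obtain ⟨U, hU, hd⟩ := h
  refine ⟨U.map f.toMonoidHom, by rw [card_map_of_injective f.injective, hU], ?_⟩
  have hc : centralizer ((U.map f.toMonoidHom : Subgroup H) : Set H) =
      (centralizer (U : Set G)).map f.toMonoidHom := by
    ext x
    rw [mem_map_equiv, mem_centralizer_iff, mem_centralizer_iff]
    constructor
    · intro h y hy
      apply f.injective
      rw [map_mul, map_mul, MulEquiv.apply_symm_apply]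
      exact h _ (mem_map_of_mem _ hy)
    · intro h y hy
      rw [SetLike.mem_coe, mem_map_equiv] at hy
      have := congrArg f (h _ hy)
      rwa [map_mul, map_mul, MulEquiv.apply_symm_apply, MulEquiv.apply_symm_apply] at this
  rw [hc, ← map_equiv_normalizer_eq, relIndex_map_map_of_injective _ _ f.injective]
  exact hd

/-- The two witnesses in any group isomorphic to `J₄`. -/
theorem witnesses_of_iso {G : Type*} [Group G] (f : J4 ≃* G) :
    (∃ U : Subgroup G, Nat.card U = 23 ∧
      11 ∣ (centralizer (U : Set G)).relIndex (normalizer (U : Set G))) ∧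
    (∃ U : Subgroup G, Nat.card U = 31 ∧
      10 ∣ (centralizer (U : Set G)).relIndex (normalizer (U : Set G))) :=
  ⟨witness_transfer f j4_w23, witness_transfer f j4_w31⟩

end Cfsg.Agent.Lib.J4Large96
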