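import Cfsg.Agent.Lib.J4Large96.Group
import Cfsg.Agent.Lib.J4Fusion14.Glue
import Cfsg.Agent.Lib.J4Fusion14.Rows

/-!
# Small elements and the large primes in a group of Janko-four type

The centralisers of elements of order `2, 3, 5, 7` are read off the centraliser rows.
-/

set_option autoImplicit false

namespace Cfsg.Agent.Lib.J4Large96

open Subgroup Cfsg.Agent.Lib.J4Type19 Cfsg.Agent.Lib.J4Fusion14

attribute [local instance] m22_finite

variable {G : Type*} [Group G]

theorem card_mulAut_M22 : Nat.card (MulAut M22t) = 887040 := by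
  have h1 := (Inn M22t).card_mul_index
  rw [show (Inn M22t).index = 2 from Compute.Mathieu.card_out_M22,
    show Nat.card ↥(Inn M22t) = 443520 from
      (Nat.card_congr (MonoidHom.ofInjective m22_conj_injective).toEquiv).symm.trans m22_card] at h1
  exact h1.symm

theorem card_centralizer_conj [Finite G] (g x : G) :
    Nat.card (centralizer ({g * x * g⁻¹} : Set G)) = Nat.card (centralizer ({x} : Set G)) := by
  have h := (invariants_conj (zpowers x) g).1
  rw [MonoidHom.map_zpowers] at h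
  simp only [MulEquiv.coe_toMonoidHom, MulAut.conj_apply, zpowers_eq_closure,
    centralizer_closure] at h
  exact h

theorem centralizer_le_normalizer_zpowers (x : G) :
    centralizer ({x} : Set G) ≤ normalizer (zpowers x : Set G) := by
  refine le_trans (le_of_eq ?_) (centralizer_le_normalizer _)
  rw [zpowers_eq_closure, centralizer_closure]

variable [Finite G]

theorem not_dvd_of_dvd_smooth {n m : ℕ} (h : n ∣ m) {q : ℕ} (hq : q ∈ bigPrimes)
    (hm : ∀ q ∈ bigPrimes, ¬ q ∣ m) : ¬ q ∣ n := fun hn => hm q hq (hn.trans h)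

/-- An element of prime order `r` whose Sylow subgroup has order `r`. -/
theorem not_dvd_centralizer_of_sylow {r N : ℕ} [Fact r.Prime] (hr2 : ¬ r ^ 2 ∣ Nat.card G)
    {x y : G} (hx : orderOf x = r) (hy : orderOf y = r)
    (hN : Nat.card (normalizer (zpowers y : Set G)) = N) (hm : ∀ q ∈ bigPrimes, ¬ q ∣ N)
    {q : ℕ} (hq : q ∈ bigPrimes) : ¬ q ∣ Nat.card (centralizer ({x} : Set G)) := by
  have hfac : (Nat.card G).factorization r = 1 := by
    refine le_antisymm ?_ ((Fact.out : r.Prime).factorization_pos_of_dvd Nat.card_pos.ne'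
      (hx ▸ orderOf_dvd_natCard x))
    by_contra hlt
    exact hr2 (((Fact.out : r.Prime).pow_dvd_iff_le_factorization Nat.card_pos.ne').2 (by omega))
  obtain ⟨g, hg⟩ := MulAction.exists_smul_eq G
    (Sylow.ofCard (zpowers x) (p := r) (by rw [Nat.card_zpowers, hx, hfac, pow_one]))
    (Sylow.ofCard (zpowers y) (p := r) (by rw [Nat.card_zpowers, hy, hfac, pow_one]))
  have hmap : (zpowers x).map (MulAut.conj g).toMonoidHom = zpowers y :=
    congrArg (fun S : Sylow r G => (S : Subgroup G)) hg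
  rw [← card_centralizer_conj g x]
  refine not_dvd_of_dvd_smooth (m := N) ?_ hq hm
  rw [← hN]
  refine card_dvd_of_le ?_
  rw [← hmap, MonoidHom.map_zpowers]
  exact centralizer_le_normalizer_zpowers _

/-- The field `small` of `Facts` from the centraliser rows. -/
theorem small_of_rows [IsSimpleGroup G] (hG : ¬ IsMulCommutative G) (z : G) (P : Subgroup G)
    (hJ : Cfsg.IsOfJankoFourTypeWith z P)
    (h69 : ∀ t : G, orderOf t = 2 → ¬ IsConj z t → ∃ V K : Subgroup G,
      V ≤ centralizer ({t} : Set G) ∧ K ≤ centralizer ({t} : Set G) ∧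
      centralizer ({t} : Set G) ≤ normalizer (V : Set G) ∧ Nat.card ↥V = 2 ^ 11 ∧
      K ⊓ V = ⊥ ∧ K ⊔ V = centralizer ({t} : Set G) ∧ Nonempty (↥K ≃* MulAut ↥Cfsg.Spor.M22))
    (h72 : ∀ Q : Subgroup G, Nat.card ↥Q = 5 → Q ≤ centralizer ({z} : Set G) →
      ¬ (25 ∣ Nat.card G) ∧ Nat.card ↥(normalizer (Q : Set G)) = 2 ^ 8 * 3 * 5 * 7)
    (h73 : ∀ S : Subgroup G, Nat.card ↥S = 7 → S ≤ centralizer ({z} : Set G) →
      ¬ (49 ∣ Nat.card G) ∧ Nat.card ↥(normalizer (S : Set G)) = 2 ^ 3 * 3 ^ 2 * 5 * 7) :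
    ∀ (x : G) (r : ℕ), r ∈ ([2, 3, 5, 7] : List ℕ) → orderOf x = r →
      ∀ q ∈ bigPrimes, ¬ q ∣ Nat.card (centralizer ({x} : Set G)) := by
  have hH : Nat.card (centralizer ({z} : Set G)) = 2 ^ 13 * 3 * 887040 := card_cH hJ
  have hsm : ∀ q ∈ bigPrimes, ¬ q ∣ 2 ^ 13 * 3 * 887040 := by decide +kernel
  intro x r hr hx q hq
  simp only [List.mem_cons, List.not_mem_nil, or_false] at hr
  rcases hr with rfl | rfl | rfl | rfl
  · by_cases hc : IsConj z x
    · obtain ⟨g, rfl⟩ := isConj_iff.1 hc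
      rw [card_centralizer_conj]
      exact not_dvd_of_dvd_smooth hH.dvd hq hsm
    · obtain ⟨V, K, hVC, hKC, hCN, hV, hi, hs, ⟨f⟩⟩ := h69 x hx hc
      refine not_dvd_of_dvd_smooth (m := 887040 * 2 ^ 11) (dvd_of_eq ?_) hq (by decide +kernel)
      have h1 : ((V.subgroupOf (centralizer ({x} : Set G)))).Normal :=
        normal_subgroupOf_of_le_normalizer hCN
      have h2 : IsComplement' (V.subgroupOf (centralizer ({x} : Set G)))
          (K.subgroupOf (centralizer ({x} : Set G))) := by
        refine isComplement'_of_disjoint_and_mul_eq_univ ?_ ?_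
        · rw [disjoint_iff, subgroupOf, subgroupOf, ← comap_inf, inf_comm V K, hi,
            ← subgroupOf, bot_subgroupOf]
        · rw [← normal_mul, ← subgroupOf_sup hVC hKC, sup_comm, hs, subgroupOf_self, coe_top]
      rw [← h2.card_mul, Nat.card_congr (subgroupOfEquivOfLe hVC).toEquiv, hV,
        Nat.card_congr (subgroupOfEquivOfLe hKC).toEquiv, Nat.card_congr f.toEquiv,
        card_mulAut_M22, Nat.mul_comm]
  · obtain ⟨D, fr, -, -, hN, hpx⟩ := exists_package hG hJ
    obtain ⟨g, hg⟩ := isConj_iff.1 ((one_class_three fr hN hpx x hx).trans hpx.symm)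
    rw [← card_centralizer_conj g x, hg]
    refine not_dvd_of_dvd_smooth ((card_dvd_of_le ?_).trans hH.dvd) hq hsm
    refine (centralizer_le_normalizer_zpowers _).trans (le_trans (le_of_eq ?_) hN)
    congr 1
    refine congrArg _ (le_antisymm (zpowers_le.2 D.p_mem) fun y hy => ?_)
    rcases (D.mem_P y).1 hy with rfl | rfl | rfl
    exacts [one_mem _, mem_zpowers _, mul_mem (mem_zpowers _) (mem_zpowers _)]
  · haveI : Fact (Nat.Prime 5) := ⟨by norm_num⟩
    obtain ⟨y, hy⟩ := exists_prime_orderOf_dvd_card' (G := centralizer ({z} : Set G)) 5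
      (hH ▸ by decide +kernel)
    have hy' : orderOf (y : G) = 5 := by rw [orderOf_coe, hy]
    obtain ⟨h25, hN⟩ := h72 (zpowers (y : G)) (by rw [Nat.card_zpowers, hy'])
      (zpowers_le.2 y.2)
    exact not_dvd_centralizer_of_sylow h25 hx hy' hN (by decide +kernel) hq
  · haveI : Fact (Nat.Prime 7) := ⟨by norm_num⟩
    obtain ⟨y, hy⟩ := exists_prime_orderOf_dvd_card' (G := centralizer ({z} : Set G)) 7
      (hH ▸ by decide +kernel)
    have hy' : orderOf (y : G) = 7 := by rw [orderOf_coe, hy]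
    obtain ⟨h49, hN⟩ := h73 (zpowers (y : G)) (by rw [Nat.card_zpowers, hy'])
      (zpowers_le.2 y.2)
    exact not_dvd_centralizer_of_sylow h49 hx hy' hN (by decide +kernel) hq

end Cfsg.Agent.Lib.J4Large96
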