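import Cfsg.Agent.Lib.J4Large96.FromRows
import Cfsg.Agent.Lib.J4Large96.Witness

/-!
# The large primes in a group of Janko-four type isomorphic to `J₄`
-/

set_option autoImplicit false

namespace Cfsg.Agent.Lib.J4Large96

open Subgroup

/-- Assembly: iso with `J₄` and the centraliser rows give the five normalisers. -/
theorem large_primes_of_iso {G : Type*} [Group G] [Finite G] [IsSimpleGroup G]
    (hG : ¬ IsMulCommutative G) (hiso : Cfsg.Spor.IsoJ4 G) (z : G) (P : Subgroup G)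
    (hJ : Cfsg.IsOfJankoFourTypeWith z P)
    (h69 : ∀ t : G, orderOf t = 2 → ¬ IsConj z t → ∃ V K : Subgroup G,
      V ≤ centralizer ({t} : Set G) ∧ K ≤ centralizer ({t} : Set G) ∧
      centralizer ({t} : Set G) ≤ normalizer (V : Set G) ∧ Nat.card ↥V = 2 ^ 11 ∧
      K ⊓ V = ⊥ ∧ K ⊔ V = centralizer ({t} : Set G) ∧ Nonempty (↥K ≃* MulAut ↥Cfsg.Spor.M22))
    (h72 : ∀ Q : Subgroup G, Nat.card ↥Q = 5 → Q ≤ centralizer ({z} : Set G) →
      ¬ (25 ∣ Nat.card G) ∧ Nat.card ↥(normalizer (Q : Set G)) = 2 ^ 8 * 3 * 5 * 7)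
    (h73 : ∀ S : Subgroup G, Nat.card ↥S = 7 → S ≤ centralizer ({z} : Set G) →
      ¬ (49 ∣ Nat.card G) ∧ Nat.card ↥(normalizer (S : Set G)) = 2 ^ 3 * 3 ^ 2 * 5 * 7) :
    Good G 23 22 ∧ Good G 29 28 ∧ Good G 31 10 ∧ Good G 37 12 ∧ Good G 43 14 := by
  obtain ⟨e⟩ := hiso
  exact large_primes
    { card := (Nat.card_congr e.toEquiv).trans Cfsg.Agent.S1703.result.2
      small := small_of_rows hG z P hJ h69 h72 h73
      w23 := (witnesses_of_iso e.symm).1
      w31 := (witnesses_of_iso e.symm).2 }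

end Cfsg.Agent.Lib.J4Large96
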